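import Groth.Agent.Props12.FinLocFree
import Groth.Agent.Coherent.FiniteType

/-!
# Retracts of finite free modules and finite projective modules of global functions
-/

set_option autoImplicit false
set_option backward.isDefEq.respectTransparency false
set_option linter.style.haveILetI false

universe u

open CategoryTheory CategoryTheory.Limits AlgebraicGeometry Opposite
open Groth.Agent.Coherent

namespace Groth.Agent.FreeRetract

noncomputable section

variable (X : Scheme.{u})

/-- Global sections as modules over the ring of global functions. -/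
def gamTop : X.Modules ⥤ ModuleCat.{u} Γ(X, ⊤) where
  obj M := ModuleCat.of Γ(X, ⊤) Γ(M, ⊤)
  map {M N} φ := ModuleCat.ofHom
    { toFun := fun s => φ.app ⊤ s
      map_add' := fun a b => map_add (φ.app ⊤).hom a b
      map_smul' := fun r a => Scheme.Modules.Hom.app_smul φ r a }
  map_id _ := rfl
  map_comp _ _ := rfl

variable {X}

theorem gamTop_app {M N : X.Modules} (φ : M ⟶ N) (s : Γ(M, ⊤)) :
    ((gamTop X).map φ).hom s = φ.app ⊤ s := rfl

theorem unit_hom_ext {M : X.Modules} {φ ψ : Coh.structureModule X ⟶ M}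
    (h : unitVal φ ⊤ = unitVal ψ ⊤) : φ = ψ :=
  Scheme.Modules.hom_ext _ _ fun V => by
    refine ConcreteCategory.hom_ext _ _ fun (r : Γ(X, V)) => ?_
    exact (app_unit φ r).trans ((congrArg (fun m : Γ(M, V) => r • m)
      (((resM_unitVal φ le_top).symm.trans (congrArg _ h)).trans (resM_unitVal ψ le_top))).trans
      (app_unit ψ r).symm)

variable {I : Type u}

theorem free_hom_ext {M : X.Modules} {φ ψ : freeMod X I ⟶ M}
    (h : (gamTop X).map φ = (gamTop X).map ψ) : φ = ψ :=
  freeMod_hom_ext fun i => unit_hom_ext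
    (congrArg (fun m : (gamTop X).obj (freeMod X I) ⟶ (gamTop X).obj M => m.hom (freeBasisVec i ⊤)) h)

theorem exists_lift [Fintype I] [DecidableEq I] {M : X.Modules}
    (h : (gamTop X).obj (freeMod X I) ⟶ (gamTop X).obj M) :
    ∃ χ : freeMod X I ⟶ M, (gamTop X).map χ = h := by
  refine ⟨freeDesc fun i => unitDesc M (h.hom (freeBasisVec i ⊤)), ModuleCat.hom_ext ?_⟩
  refine LinearMap.ext fun (a : Γ(freeMod X I, ⊤)) => ?_
  refine (gamTop_app _ a).trans ((freeMod_app _ a).trans ?_)
  rw [show (h.hom a : Γ(M, ⊤)) = h.hom (∑ i, freeCoord ⊤ i a • freeBasisVec i ⊤) from congrArg _ (freeMod_decomp a)]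
  refine Eq.trans ?_ (map_sum h.hom _ _).symm
  refine Finset.sum_congr rfl fun i _ => ?_
  rw [freeInj_freeDesc, unitVal_unitDesc]
  refine Eq.trans ?_ (map_smul h.hom (freeCoord ⊤ i a) (freeBasisVec i ⊤)).symm
  exact congrArg (freeCoord ⊤ i a • ·) (resM_refl M _)

variable (X)

/-- Retracts of finite free modules. -/
def isRetract : ObjectProperty X.Modules := fun M : X.Modules =>
  ∃ (n : ℕ) (i : M ⟶ FlatMod.freeMod X n) (r : FlatMod.freeMod X n ⟶ M), i ≫ r = 𝟙 M

/-- Finite projective modules of global functions. -/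
def isFinProj : ObjectProperty (ModuleCat.{u} Γ(X, ⊤)) := fun N =>
  Module.Finite Γ(X, ⊤) N ∧ Module.Projective Γ(X, ⊤) N

variable {X}

theorem exists_free {M : X.Modules} (h : isRetract X M) :
    ∃ (n : ℕ) (i : M ⟶ freeMod X (ULift.{u} (Fin n))) (r : freeMod X (ULift.{u} (Fin n)) ⟶ M),
      i ≫ r = 𝟙 M := by
  obtain ⟨n, i, r, hir⟩ := h
  exact ⟨n, i ≫ (Props12.freeModIso X n).inv, (Props12.freeModIso X n).hom ≫ r, by simp [hir]⟩

theorem gamTop_isFinProj {M : X.Modules} (h : isRetract X M) : isFinProj X ((gamTop X).obj M) := by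
  classical
  obtain ⟨n, i, r, hir⟩ := exists_free h
  let e : (gamTop X).obj (freeMod X (ULift.{u} (Fin n))) ≃ₗ[Γ(X, ⊤)] (ULift.{u} (Fin n) → Γ(X, ⊤)) :=
    freeSectionsEquiv (I := ULift.{u} (Fin n)) ⊤
  let p := ((gamTop X).map r).hom ∘ₗ e.symm.toLinearMap
  let s := e.toLinearMap ∘ₗ ((gamTop X).map i).hom
  have hps : p ∘ₗ s = LinearMap.id := by
    refine LinearMap.ext fun x => ?_
    simp only [p, s, LinearMap.comp_apply, LinearEquiv.coe_coe, LinearEquiv.symm_apply_apply]
    rw [← LinearMap.comp_apply, ← ModuleCat.hom_comp, ← Functor.map_comp, hir, CategoryTheory.Functor.map_id]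
    rfl
  refine ⟨Module.Finite.of_surjective p ?_, Module.Projective.of_split s p hps⟩
  exact fun x => ⟨s x, LinearMap.congr_fun hps x⟩

/-- The equivalence functor. -/
def toFinProj : (isRetract X).FullSubcategory ⥤ (isFinProj X).FullSubcategory :=
  (isFinProj X).lift ((isRetract X).ι ⋙ gamTop X) fun M => gamTop_isFinProj M.property

instance : (toFinProj (X := X)).Faithful where
  map_injective {M N} φ ψ h := by
    classical
    obtain ⟨n, i, r, hir⟩ := exists_free M.property
    have h' : (gamTop X).map φ.hom = (gamTop X).map ψ.hom :=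
      congrArg (fun m : toFinProj.obj M ⟶ toFinProj.obj N => m.hom) h
    apply ObjectProperty.hom_ext
    haveI : IsSplitEpi r := ⟨⟨i, hir⟩⟩
    exact (cancel_epi r).1 (free_hom_ext (by rw [Functor.map_comp, Functor.map_comp, h']))

instance : (toFinProj (X := X)).Full where
  map_surjective {M N} g := by
    classical
    obtain ⟨n, i, r, hir⟩ := exists_free M.property
    obtain ⟨χ, hχ⟩ := exists_lift ((gamTop X).map r ≫ g.hom)
    refine ⟨ObjectProperty.homMk (i ≫ χ), ObjectProperty.hom_ext _ ?_⟩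
    change (gamTop X).map (i ≫ χ) = g.hom
    rw [Functor.map_comp, hχ, ← Category.assoc, ← Functor.map_comp, hir, CategoryTheory.Functor.map_id]
    exact Category.id_comp _

instance : (toFinProj (X := X)).EssSurj where
  mem_essImage := by
    classical
    rintro ⟨N, hN⟩
    haveI : Module.Finite Γ(X, ⊤) N := hN.1
    haveI : Module.Projective Γ(X, ⊤) N := hN.2
    obtain ⟨n, π, hπ⟩ := Module.Finite.exists_fin' Γ(X, ⊤) N
    let e : (gamTop X).obj (freeMod X (ULift.{u} (Fin n))) ≃ₗ[Γ(X, ⊤)] (ULift.{u} (Fin n) → Γ(X, ⊤)) :=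
      freeSectionsEquiv (I := ULift.{u} (Fin n)) ⊤
    let p : (gamTop X).obj (freeMod X (ULift.{u} (Fin n))) →ₗ[Γ(X, ⊤)] N :=
      π ∘ₗ (LinearEquiv.funCongrLeft Γ(X, ⊤) Γ(X, ⊤) Equiv.ulift.symm).toLinearMap ∘ₗ e.toLinearMap
    have hp : Function.Surjective p :=
      hπ.comp (((LinearEquiv.funCongrLeft Γ(X, ⊤) Γ(X, ⊤) Equiv.ulift.symm).surjective).comp e.surjective)
    obtain ⟨s, hs⟩ := Module.projective_lifting_property p LinearMap.id hp
    let pc : (gamTop X).obj (freeMod X (ULift.{u} (Fin n))) ⟶ N := ModuleCat.ofHom p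
    let sc : N ⟶ (gamTop X).obj (freeMod X (ULift.{u} (Fin n))) := ModuleCat.ofHom s
    have hsc : sc ≫ pc = 𝟙 N := ModuleCat.hom_ext hs
    obtain ⟨E, hE⟩ := exists_lift (pc ≫ sc)
    have hidem : E ≫ E = E := free_hom_ext (by
      rw [Functor.map_comp, hE, Category.assoc, reassoc_of% hsc])
    obtain ⟨M, i, r, hir, hri⟩ := IsIdempotentComplete.idempotents_split _ E hidem
    refine ⟨⟨M, n, i ≫ (Props12.freeModIso X n).hom, (Props12.freeModIso X n).inv ≫ r, by simp [hir]⟩,
      ⟨(isFinProj X).fullyFaithfulι.preimageIso (X := toFinProj.obj _) (Y := ⟨N, hN⟩) ?_⟩⟩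
    have hA : ((gamTop X).map i ≫ pc) ≫ sc ≫ (gamTop X).map r = 𝟙 ((gamTop X).obj M) := by
      rw [Category.assoc, ← Category.assoc pc, ← hE, ← Functor.map_comp, ← Functor.map_comp,
        ← hri, Category.assoc, hir, Category.comp_id, hir, CategoryTheory.Functor.map_id]
    have hB : (sc ≫ (gamTop X).map r) ≫ (gamTop X).map i ≫ pc = 𝟙 N := by
      rw [Category.assoc, ← Category.assoc ((gamTop X).map r), ← Functor.map_comp, hri, hE,
        Category.assoc, hsc, Category.comp_id]
      exact hsc
    exact { hom := (gamTop X).map i ≫ pc, inv := sc ≫ (gamTop X).map r, hom_inv_id := hA, inv_hom_id := hB }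

/-- Retracts of finite free modules are finite projective modules of global functions. -/
theorem nonempty_equivalence :
    Nonempty ((isRetract X).FullSubcategory ≌ (isFinProj X).FullSubcategory) :=
  haveI : (toFinProj (X := X)).IsEquivalence := { }
  ⟨(toFinProj (X := X)).asEquivalence⟩

end

end Groth.Agent.FreeRetract
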